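import Cfsg.Agent.Lib.Mult.Glue
import Cfsg.Agent.Lib.Grp.HS.Main

set_option autoImplicit false
set_option maxRecDepth 100000
set_option Elab.async false

namespace Cfsg.Agent.Mult.HS

open Cfsg.Agent.CG Cfsg.Agent.CG.HS

noncomputable def p3T : ℕ := 0x802802000000402000000000
noncomputable def p3q1 : ℕ := 0x201
noncomputable def p3q2 : ℕ := 0x29a5
noncomputable def p3NF : ℕ := 0x10000000100000000000000000001000000000000000000000000
noncomputable def p3gv : ℕ := 0x100020001010001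
noncomputable def p3av : ℕ := 0x0
noncomputable def p3mu : ℕ := 0x9800005000000
noncomputable def p3om : ℕ := 0x0
noncomputable def p3tm : ℕ := 0x16a368b6d
noncomputable def p3par : ℕ := 0x874
noncomputable def p3z : Desc := ⟨0,0,0,0,[],[]⟩
noncomputable def p3ds : Tr Desc := (.node (.node (.node (.node (.leaf p3z) (.leaf ⟨0,2,0,0,[],[]⟩)) (.leaf ⟨0,0,0,0,[],[]⟩)) (.node (.node (.leaf p3z) (.leaf p3z)) (.leaf p3z))) (.node (.node (.node (.leaf p3z) (.leaf p3z)) (.leaf p3z)) (.node (.leaf p3z) (.leaf ⟨0,1,0,0,[],[]⟩))))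
noncomputable def p3rd : Tr Desc := (.node (.node (.leaf ⟨2,0,0,0,[1,1,1],[]⟩) (.leaf ⟨2,0,0,0,[1,0],[0,1]⟩)) (.leaf ⟨2,0,0,0,[0,0,0],[]⟩))
noncomputable def D3 : Dat where
  p := 3
  q := 3
  n1 := 3
  b := 2
  fl := 4
  ew := 12
  T := p3T
  w := 9
  fuel := 13
  nf := 1
  cm := 2
  q1 := fun x => look 0xff p3q1 (Nat.mul 8 x)
  q2 := fun x => look 0xff p3q2 (Nat.mul 8 x)
  NV := 11
  d := 3
  w2 := 8
  NF := fun x => look 0xffffff p3NF (Nat.mul 24 x)
  tm := fun x => look 0x7 p3tm (Nat.mul 3 x)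
  TM := 5
  par := fun x => look 0xf p3par (Nat.mul 4 x)
  ds := fun x => p3ds.get x
  r := 3
  s0 := 0
  gv := fun x => look 0xffffff p3gv (Nat.mul 24 x)
  rd := fun x => p3rd.get x
  av := fun x => look 0xffffff p3av (Nat.mul 24 x)
  mw := 2
  mu := fun x => look 0x3f p3mu (Nat.mul 6 x)
  ms := []
  om := fun x => look 0x3f p3om (Nat.mul 6 x)
noncomputable def p3w1 : List (List ℕ) := [[48,2,31,15,42,22,27,29,35,36],
  [28,1,18,29,21,29,32,41,36,37],
  [57,2,49,15,25,21,26,30,41,37]]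
noncomputable def p3w2 : List (List ℕ) := [[1],
  [2]]
noncomputable def p3L0c : ℕ := 0x2d21009c
noncomputable def p3L0p : ℕ := 0x400000
noncomputable def p3L0l : ℕ := 0x801000
noncomputable def p3L0q : ℕ := 0x40100000000000000
noncomputable def p3L1c : ℕ := 0x452222dc
noncomputable def p3L1p : ℕ := 0x400000
noncomputable def p3L1l : ℕ := 0x400800
noncomputable def p3L1q : ℕ := 0x400000001
noncomputable def p3L : List Lvl := [mkLvl 156 [2] 3 11 p3L0c p3L0p p3L0l 7 p3L0q,
  mkLvl 732 [1] 3 11 p3L1c p3L1p p3L1l 7 p3L1q]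

theorem p3c0 : okcb 100 12 (bases p3L) = true := by decide +kernel
theorem p3c1 : D3.chkNum 0 2 44352000 p3w2 p3L = true := by decide +kernel
theorem p3c2 : headAll (appW (appW app p3w1) p3w2) p3L [] = true := by decide +kernel
theorem p3c3 : allL (fun l => l.chk (appW (appW app p3w1) p3w2) 1 (l.N - 1)) p3L = true := by decide +kernel
theorem p3c4 : D3.chkPc (appW app p3w1) bs 0 9 = true := by decide +kernel
theorem p3c5 : D3.chkFus (appW app p3w1) bs 0 2 = true := by decide +kernel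
theorem p3c6 : D3.chkHead = true := by decide +kernel
theorem p3c7 : D3.chkVars 0 11 = true := by decide +kernel
theorem p3c8 : D3.chkRhos 0 3 = true := by decide +kernel
theorem p3c9 : D3.chkEnts 0 9 = true := by decide +kernel

theorem pb3 : PB PG 3 [] :=
  Dat.pbA (D := D3) base card (by norm_num : Nat.Prime 3) (okc_of_okcb p3c0) p3c1 p3c2 p3c3
    p3c4
    p3c5
    p3c6 p3c7
    p3c8
    p3c9

end Cfsg.Agent.Mult.HS
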